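import Mathlib.AlgebraicTopology.SimplicialObject.Basic
import Mathlib.CategoryTheory.Sites.Grothendieck
import Mathlib.GroupTheory.FreeAbelianGroup
import Mathlib.Tactic.Abel
import Mathlib.Algebra.BigOperators.Fin
import Mathlib.CategoryTheory.Sites.LocallySurjective

/-!
# Local cones in locally contractible simplicial objects

The combinatorics of HyperH28.Cone for representable simplicial presheaves on a category of any size.
-/

set_option autoImplicit false
set_option linter.unusedSectionVars false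
set_option backward.isDefEq.respectTransparency false
set_option backward.isDefEq.respectTransparency.types false

universe v w

open CategoryTheory CategoryTheory.Limits Opposite

noncomputable section

namespace Groth.Agent.HyperPh5

variable {C : Type w} [Category.{v} C] (J : GrothendieckTopology C) (S : SimplicialObject C)

/-- Sections in degree `n` over `U`. -/
abbrev Sec (n : ℕ) (U : C) : Type v := U ⟶ S.obj (op (SimplexCategory.mk n))

/-- Restriction. -/
abbrev rs {n : ℕ} {U V : C} (g : V ⟶ U) (x : Sec S n U) : Sec S n V := g ≫ x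

/-- Faces. -/
abbrev fc {n : ℕ} {U : C} (i : Fin (n + 2)) (x : Sec S (n + 1) U) : Sec S n U := x ≫ S.δ i

theorem rs_rs {n : ℕ} {U V W : C} (g : V ⟶ U) (g' : W ⟶ V) (x : Sec S n U) :
    rs S g' (rs S g x) = rs S (g' ≫ g) x :=
  (Category.assoc _ _ _).symm

theorem fc_rs {n : ℕ} {U V : C} (i : Fin (n + 2)) (g : V ⟶ U) (x : Sec S (n + 1) U) :
    fc S i (rs S g x) = rs S g (fc S i x) :=
  Category.assoc _ _ _

theorem fc_fc {n : ℕ} {U : C} {i j : Fin (n + 2)} (h : i ≤ j) (x : Sec S (n + 1 + 1) U) :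
    fc S i (fc S j.succ x) = fc S j (fc S i.castSucc x) :=
  (Category.assoc _ _ _).trans ((congrArg (x ≫ ·) (S.δ_comp_δ h)).trans (Category.assoc _ _ _).symm)

/-- Locally, boundaries can be filled. -/
structure IsLocContr : Prop where
  zero : ∀ U : C, ∃ T : Sieve U, T ∈ J U ∧ ∀ ⦃V : C⦄ (g : V ⟶ U), T g → Nonempty (Sec S 0 V)
  one : ∀ (U : C) (a b : Sec S 0 U), ∃ T : Sieve U, T ∈ J U ∧ ∀ ⦃V : C⦄ (g : V ⟶ U), T g →
    ∃ e : Sec S 1 V, fc S 1 e = rs S g a ∧ fc S 0 e = rs S g b
  fill : ∀ (n : ℕ) (U : C) (y : Fin (n + 3) → Sec S (n + 1) U),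
    (∀ i j : Fin (n + 2), i ≤ j → fc S i (y j.succ) = fc S j (y i.castSucc)) →
    ∃ T : Sieve U, T ∈ J U ∧ ∀ ⦃V : C⦄ (g : V ⟶ U), T g →
      ∃ e : Sec S (n + 1 + 1) V, ∀ i, fc S i e = rs S g (y i)

variable {U : C} (p : Sec S 0 U)

/-- The conditions on the cone over a simplex. -/
def Rel {V : C} (g : V ⟶ U) (h : ∀ m, Sec S m U → Option (Sec S (m + 1) V)) :
    ∀ m : ℕ, Sec S m U → Sec S (m + 1) V → Prop
  | 0, σ, e => fc S 0 e = rs S g σ ∧ fc S 1 e = rs S g p
  | m + 1, σ, e => fc S 0 e = rs S g σ ∧ ∀ i : Fin (m + 2), h m (fc S i σ) = some (fc S i.succ e)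

/-- A cone with vertex `p` over the simplices in `T` of dimension at most `N`. -/
def IsCone {V : C} (g : V ⟶ U) (T : ∀ m, Finset (Sec S m U)) (N : ℕ)
    (h : ∀ m, Sec S m U → Option (Sec S (m + 1) V)) : Prop :=
  ∀ m, m ≤ N → ∀ σ ∈ T m, ∃ e, h m σ = some e ∧ Rel S p g h m σ e

theorem Rel.restrict {V W : C} (g : V ⟶ U) (g' : W ⟶ V) (h : ∀ m, Sec S m U → Option (Sec S (m + 1) V))
    (m : ℕ) (σ : Sec S m U) (e : Sec S (m + 1) V) (he : Rel S p g h m σ e) :
    Rel S p (g' ≫ g) (fun m σ => (h m σ).map (rs S g')) m σ (rs S g' e) := by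
  cases m with
  | zero => exact ⟨by rw [fc_rs, he.1, rs_rs], by rw [fc_rs, he.2, rs_rs]⟩
  | succ m => exact ⟨by rw [fc_rs, he.1, rs_rs], fun i => by
      show Option.map _ (h m (fc S i σ)) = _
      rw [fc_rs, he.2 i]; rfl⟩

/-- The sieve where a cone exists. -/
def coneSieve (T : ∀ m, Finset (Sec S m U)) (N : ℕ) : Sieve U where
  arrows V g := ∃ h, IsCone S p g T N h
  downward_closed := by
    rintro V W g ⟨h, hh⟩ g'
    refine ⟨fun m σ => (h m σ).map (rs S g'), fun m hm σ hσ => ?_⟩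
    obtain ⟨e, he, hr⟩ := hh m hm σ hσ
    exact ⟨rs S g' e, by show Option.map _ (h m σ) = _; rw [he]; rfl, Rel.restrict S p g g' h m σ e hr⟩

theorem finset_inf_mem {α : Type*} {V : C} (A : Finset α) (R : α → Sieve V) (h : ∀ a ∈ A, R a ∈ J V) :
    A.inf R ∈ J V := by
  classical
  induction A using Finset.induction with
  | empty => rw [Finset.inf_empty]; exact J.top_mem V
  | insert a A ha ih =>
    rw [Finset.inf_insert]
    exact J.intersection_covering (h a (Finset.mem_insert_self a A))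
      (ih fun b hb => h b (Finset.mem_insert_of_mem hb))

theorem coneSieve_mem (hS : IsLocContr J S) (T : ∀ m, Finset (Sec S m U))
    (hT : ∀ (m : ℕ) (σ : Sec S (m + 1) U), σ ∈ T (m + 1) → ∀ i, fc S i σ ∈ T m) :
    ∀ N, coneSieve S p T N ∈ J U := by
  classical
  intro N
  induction N with
  | zero =>
    choose R hR hR' using fun σ : Sec S 0 U => hS.one U p σ
    refine J.superset_covering ?_ (finset_inf_mem J (T 0) R fun σ _ => hR σ)
    intro V g hg
    have : ∀ σ ∈ T 0, ∃ e : Sec S 1 V, fc S 1 e = rs S g p ∧ fc S 0 e = rs S g σ := fun σ hσ =>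
      hR' σ g ((Finset.inf_le (f := R) hσ : _ ≤ R σ) _ hg)
    choose e he using this
    refine ⟨fun m => match m with
      | 0 => fun σ => if hσ : σ ∈ T 0 then some (e σ hσ) else none
      | _ + 1 => fun _ => none, fun m hm σ hσ => ?_⟩
    obtain rfl : m = 0 := Nat.le_zero.1 hm
    exact ⟨e σ hσ, dif_pos hσ, (he σ hσ).2, (he σ hσ).1⟩
  | succ N ih =>
    refine J.transitive ih _ fun V g ⟨h, hh⟩ => ?_
    have hy : ∀ σ ∈ T (N + 1), ∃ y : Fin (N + 3) → Sec S (N + 1) V, y 0 = rs S g σ ∧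
        (∀ i : Fin (N + 2), h N (fc S i σ) = some (y i.succ)) ∧
        ∀ i j : Fin (N + 2), i ≤ j → fc S i (y j.succ) = fc S j (y i.castSucc) := by
      intro σ hσ
      choose e he using fun i : Fin (N + 2) => hh N le_rfl (fc S i σ) (hT N σ hσ i)
      refine ⟨Fin.cases (rs S g σ) e, rfl, fun i => by simpa using (he i).1, fun i j hij => ?_⟩
      obtain rfl | ⟨i', rfl⟩ := i.eq_zero_or_eq_succ
      · show fc S 0 (e j) = fc S j (rs S g σ)
        rw [fc_rs]
        cases N with
        | zero => exact (he j).2.1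
        | succ N => exact (he j).2.1
      · obtain ⟨j', rfl⟩ : ∃ j', j = Fin.succ j' := Fin.exists_succ_eq.2 (by
          rintro rfl
          exact absurd hij (not_le.2 (Fin.succ_pos i'))) |>.imp fun _ h => h.symm
        show fc S i'.succ (e j'.succ) = fc S j'.succ (e i'.castSucc)
        cases N with
        | zero =>
          obtain rfl : i' = 0 := Fin.ext (by omega)
          obtain rfl : j' = 0 := Fin.ext (by omega)
          exact (he _).2.2.trans (he _).2.2.symm
        | succ N =>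
          have a := (he j'.succ).2.2 i'
          have b := (he i'.castSucc).2.2 j'
          rw [fc_fc S (Fin.succ_le_succ_iff.1 hij)] at a
          exact Option.some.inj (a.symm.trans b)
    choose y hy0 hyh hyc using hy
    choose R hR hR' using fun σ (hσ : σ ∈ T (N + 1)) => hS.fill N V (y σ hσ) (hyc σ hσ)
    refine J.superset_covering ?_ (finset_inf_mem J (T (N + 1)).attach (fun σ => R σ.1 σ.2) fun σ _ => hR σ.1 σ.2)
    intro W g' hg'
    have hfill : ∀ σ, ∀ hσ : σ ∈ T (N + 1), ∃ e : Sec S (N + 1 + 1) W, ∀ i, fc S i e = rs S g' (y σ hσ i) :=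
      fun σ hσ => hR' σ hσ g' ((Finset.inf_le (f := fun σ : T (N + 1) => R σ.1 σ.2) (Finset.mem_attach _ ⟨σ, hσ⟩) : _ ≤ R σ hσ) _ hg')
    choose e he using hfill
    let h₀ : ∀ m, Sec S m U → Option (Sec S (m + 1) W) := fun m σ => (h m σ).map (rs S g')
    let h₁ := Function.update h₀ (N + 1) (fun σ => if hσ : σ ∈ T (N + 1) then some (e σ hσ) else none)
    have hne : ∀ m, m ≤ N → h₁ m = h₀ m := fun m hm => Function.update_of_ne (by omega) _ _
    refine ⟨h₁, fun m hm σ hσ => ?_⟩
    rcases Nat.lt_or_ge m (N + 1) with hm' | hm'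
    · obtain ⟨e', he', hr⟩ := hh m (by omega) σ hσ
      refine ⟨rs S g' e', by rw [hne m (by omega)]; simp [h₀, he'], ?_⟩
      cases m with
      | zero => exact Rel.restrict S p g g' h 0 σ e' hr
      | succ m =>
        refine ⟨(Rel.restrict S p g g' h _ σ e' hr).1, fun i => ?_⟩
        rw [hne m (by omega)]
        exact (Rel.restrict S p g g' h _ σ e' hr).2 i
    · obtain rfl : m = N + 1 := by omega
      refine ⟨e σ hσ, ?_, by rw [he, hy0, rs_rs], fun i => ?_⟩
      · simp [h₁, hσ]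
      · rw [hne N le_rfl, he]
        simp [h₀, hyh σ hσ i]

section Chains

/-- Chains. -/
abbrev Ch (n : ℕ) (U : C) : Type v := FreeAbelianGroup (Sec S n U)

/-- The differential. -/
def bd (n : ℕ) (U : C) : Ch S (n + 1) U →+ Ch S n U :=
  FreeAbelianGroup.lift fun x => ∑ i : Fin (n + 2), (-1 : ℤ) ^ (i : ℕ) • FreeAbelianGroup.of (fc S i x)

/-- Restriction of chains. -/
def rch {n : ℕ} {U V : C} (g : V ⟶ U) : Ch S n U →+ Ch S n V :=
  FreeAbelianGroup.lift fun x => FreeAbelianGroup.of (rs S g x)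

/-- The augmentation. -/
def aug (U : C) : Ch S 0 U →+ ℤ := FreeAbelianGroup.lift fun _ => 1

/-- The chain map given by a partial cone. -/
def coneCh {V : C} (h : ∀ m, Sec S m U → Option (Sec S (m + 1) V)) (m : ℕ) : Ch S m U →+ Ch S (m + 1) V :=
  FreeAbelianGroup.lift fun σ => ((h m σ).map FreeAbelianGroup.of).getD 0

theorem exists_support {α : Type v} [DecidableEq α] (z : FreeAbelianGroup α) :
    ∃ T : Finset α, z ∈ AddSubgroup.closure (FreeAbelianGroup.of '' (T : Set α)) := by
  induction z using FreeAbelianGroup.induction_on with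
  | zero => exact ⟨∅, zero_mem _⟩
  | of x => exact ⟨{x}, AddSubgroup.subset_closure ⟨x, by simp, rfl⟩⟩
  | neg x ih => obtain ⟨T, hT⟩ := ih; exact ⟨T, neg_mem hT⟩
  | add a b iha ihb =>
    obtain ⟨Ta, hTa⟩ := iha
    obtain ⟨Tb, hTb⟩ := ihb
    refine ⟨Ta ∪ Tb, add_mem ?_ ?_⟩
    · exact AddSubgroup.closure_mono (Set.image_mono (by simp)) hTa
    · exact AddSubgroup.closure_mono (Set.image_mono (by simp)) hTb

/-- A downward closed family containing `A` in degree `n`. -/
theorem exists_closed (n : ℕ) (A : Finset (Sec S n U)) : ∃ T : ∀ m, Finset (Sec S m U),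
    A ⊆ T n ∧ ∀ (m : ℕ) (σ : Sec S (m + 1) U), σ ∈ T (m + 1) → ∀ i, fc S i σ ∈ T m := by
  classical
  induction n with
  | zero =>
    refine ⟨fun m => match m with | 0 => A | _ + 1 => ∅, fun x h => h, fun m σ hσ => ?_⟩
    simp at hσ
  | succ n ih =>
    obtain ⟨T, hA, hT⟩ := ih (Finset.univ.biUnion fun i : Fin (n + 2) => A.image (fc S i))
    let T' := Function.update (fun m => if m ≤ n then T m else ∅) (n + 1) A
    refine ⟨T', by simp [T'], fun m σ hσ i => ?_⟩
    rcases lt_trichotomy m n with hm | hm | hm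
    · have h1 : T' (m + 1) = T (m + 1) := by
        rw [show T' (m + 1) = _ from Function.update_of_ne (by omega) _ _, if_pos (by omega)]
      have h2 : T' m = T m := by
        rw [show T' m = _ from Function.update_of_ne (by omega) _ _, if_pos (by omega)]
      rw [h2]; rw [h1] at hσ
      exact hT m σ hσ i
    · subst hm
      have h2 : T' m = T m := by
        rw [show T' m = _ from Function.update_of_ne (by omega) _ _, if_pos le_rfl]
      rw [h2]
      refine hA (Finset.mem_biUnion.2 ⟨i, Finset.mem_univ i, Finset.mem_image_of_mem _ ?_⟩)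
      simpa [T'] using hσ
    · exfalso
      rw [show T' (m + 1) = _ from Function.update_of_ne (by omega) _ _, if_neg (by omega)] at hσ
      simp at hσ

theorem bd_coneCh_succ {V : C} (g : V ⟶ U) (T : ∀ m, Finset (Sec S m U)) {N n : ℕ}
    (h : ∀ m, Sec S m U → Option (Sec S (m + 1) V)) (hh : IsCone S p g T N h) (hn : n + 1 ≤ N)
    (z : Ch S (n + 1) U) (hz : z ∈ AddSubgroup.closure (FreeAbelianGroup.of '' (T (n + 1) : Set (Sec S (n + 1) U)))) :
    bd S (n + 1) V (coneCh S h (n + 1) z) = rch S g z - coneCh S h n (bd S n U z) := by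
  induction hz using AddSubgroup.closure_induction with
  | mem x hx =>
    obtain ⟨σ, hσ, rfl⟩ := hx
    obtain ⟨e, he, he0, hei⟩ := hh (n + 1) hn σ hσ
    simp only [coneCh, FreeAbelianGroup.lift_apply_of, he, Option.map_some, Option.getD_some, bd, rch, map_sum,
      map_zsmul]
    rw [Fin.sum_univ_succ, he0, Fin.val_zero, pow_zero, one_zsmul, sub_eq_add_neg, ← Finset.sum_neg_distrib]
    congr 1
    refine Finset.sum_congr rfl fun i _ => ?_
    simp [hei i, pow_succ]
  | zero => simp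
  | add a b _ _ ha hb => simp only [map_add, ha, hb]; abel
  | neg a _ ha => simp only [map_neg, ha]; abel

theorem bd_coneCh_zero {V : C} (g : V ⟶ U) (T : ∀ m, Finset (Sec S m U)) {N : ℕ}
    (h : ∀ m, Sec S m U → Option (Sec S (m + 1) V)) (hh : IsCone S p g T N h)
    (z : Ch S 0 U) (hz : z ∈ AddSubgroup.closure (FreeAbelianGroup.of '' (T 0 : Set (Sec S 0 U)))) :
    bd S 0 V (coneCh S h 0 z) = rch S g z - aug S U z • FreeAbelianGroup.of (rs S g p) := by
  induction hz using AddSubgroup.closure_induction with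
  | mem x hx =>
    obtain ⟨σ, hσ, rfl⟩ := hx
    obtain ⟨e, he, he0, he1⟩ := hh 0 (Nat.zero_le _) σ hσ
    simp only [coneCh, FreeAbelianGroup.lift_apply_of, he, Option.map_some, Option.getD_some, bd, rch, aug]
    rw [Fin.sum_univ_two, he0, he1]
    simp [sub_eq_add_neg]
  | zero => simp
  | add a b _ _ ha hb => simp only [map_add, ha, hb, add_smul]; abel
  | neg a _ ha => simp only [map_neg, ha, neg_smul]; abel

theorem rch_rch {n : ℕ} {U V W : C} (g : V ⟶ U) (g' : W ⟶ V) (z : Ch S n U) :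
    rch S g' (rch S g z) = rch S (g' ≫ g) z := by
  induction z using FreeAbelianGroup.induction_on with
  | zero => simp
  | of x => simp [rch, Category.assoc]
  | neg x ih => simp [ih]
  | add a b iha ihb => simp [iha, ihb]

theorem bd_rch {n : ℕ} {U V : C} (g : V ⟶ U) (z : Ch S (n + 1) U) :
    bd S n V (rch S g z) = rch S g (bd S n U z) := by
  induction z using FreeAbelianGroup.induction_on with
  | zero => simp
  | of x => simp [rch, bd, Category.assoc]
  | neg x ih => simp [ih]
  | add a b iha ihb => simp [iha, ihb]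

theorem aug_rch {U V : C} (g : V ⟶ U) (z : Ch S 0 U) : aug S V (rch S g z) = aug S U z := by
  induction z using FreeAbelianGroup.induction_on with
  | zero => simp
  | of x => simp [rch, aug]
  | neg x ih => simp [ih]
  | add a b iha ihb => simp [iha, ihb]

variable {J S} (hS : IsLocContr J S)
include hS

theorem exists_bd (n : ℕ) (U : C) (z : Ch S (n + 1) U) (hz : bd S n U z = 0) :
    ∃ T : Sieve U, T ∈ J U ∧ ∀ ⦃V : C⦄ (g : V ⟶ U), T g → ∃ w, bd S (n + 1) V w = rch S g z := by
  classical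
  obtain ⟨A, hA⟩ := exists_support z
  obtain ⟨T, hAT, hT⟩ := exists_closed (S := S) (n + 1) A
  obtain ⟨T₀, hT₀, hT₀'⟩ := hS.zero U
  refine ⟨Sieve.bind T₀.arrows fun V g hg => coneSieve S (hT₀' g hg).some (fun m => (T m).image (rs S g)) (n + 1),
    J.bind_covering hT₀ fun V g hg => coneSieve_mem J S _ hS _ (fun m σ hσ i => ?_) _, ?_⟩
  · obtain ⟨τ, hτ, rfl⟩ := Finset.mem_image.1 hσ
    rw [fc_rs]
    exact Finset.mem_image_of_mem _ (hT m τ hτ i)
  · rintro W _ ⟨V, g', g, hg, ⟨h, hh⟩, rfl⟩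
    refine ⟨coneCh S h (n + 1) (rch S g z), ?_⟩
    have hz' : rch S g z ∈ AddSubgroup.closure
        (FreeAbelianGroup.of '' (((T (n + 1)).image (rs S g) : Finset _) : Set (Sec S (n + 1) V))) := by
      have := AddSubgroup.mem_map_of_mem (rch S g) (AddSubgroup.closure_mono (Set.image_mono hAT) hA)
      rw [AddMonoidHom.map_closure] at this
      refine AddSubgroup.closure_mono ?_ this
      rintro _ ⟨_, ⟨x, hx, rfl⟩, rfl⟩
      exact ⟨rs S g x, Finset.mem_coe.2 (Finset.mem_image_of_mem _ hx), (FreeAbelianGroup.lift_apply_of _ _).symm⟩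
    have hdz : bd S n V (rch S g z) = 0 := by
      rw [bd_rch, hz, map_zero]
    rw [bd_coneCh_succ S _ g' _ h hh le_rfl _ hz', hdz, map_zero, sub_zero]
    rw [rch_rch]

theorem exists_bd_zero (U : C) (z : Ch S 0 U) (hz : aug S U z = 0) :
    ∃ T : Sieve U, T ∈ J U ∧ ∀ ⦃V : C⦄ (g : V ⟶ U), T g → ∃ w, bd S 0 V w = rch S g z := by
  classical
  obtain ⟨A, hA⟩ := exists_support z
  obtain ⟨T, hAT, hT⟩ := exists_closed (S := S) 0 A
  obtain ⟨T₀, hT₀, hT₀'⟩ := hS.zero U
  refine ⟨Sieve.bind T₀.arrows fun V g hg => coneSieve S (hT₀' g hg).some (fun m => (T m).image (rs S g)) 0,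
    J.bind_covering hT₀ fun V g hg => coneSieve_mem J S _ hS _ (fun m σ hσ i => ?_) _, ?_⟩
  · obtain ⟨τ, hτ, rfl⟩ := Finset.mem_image.1 hσ
    rw [fc_rs]
    exact Finset.mem_image_of_mem _ (hT m τ hτ i)
  · rintro W _ ⟨V, g', g, hg, ⟨h, hh⟩, rfl⟩
    refine ⟨coneCh S h 0 (rch S g z), ?_⟩
    have hz' : rch S g z ∈ AddSubgroup.closure
        (FreeAbelianGroup.of '' (((T 0).image (rs S g) : Finset _) : Set (Sec S 0 V))) := by
      have := AddSubgroup.mem_map_of_mem (rch S g) (AddSubgroup.closure_mono (Set.image_mono hAT) hA)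
      rw [AddMonoidHom.map_closure] at this
      refine AddSubgroup.closure_mono ?_ this
      rintro _ ⟨_, ⟨x, hx, rfl⟩, rfl⟩
      exact ⟨rs S g x, Finset.mem_coe.2 (Finset.mem_image_of_mem _ hx), (FreeAbelianGroup.lift_apply_of _ _).symm⟩
    have hdz : aug S V (rch S g z) = 0 := by
      rw [aug_rch, hz]
    rw [bd_coneCh_zero S _ g' _ h hh _ hz', hdz, zero_smul, sub_zero]
    rw [rch_rch]

end Chains

end Groth.Agent.HyperPh5
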