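import Mathlib.AlgebraicTopology.SimplicialObject.Coskeletal
import Mathlib.CategoryTheory.Limits.Shapes.FiniteProducts
import Mathlib.Tactic.FinCases

/-!
# Points of coskeleta of simplicial objects in a category with finite coproducts
-/

set_option autoImplicit false
set_option linter.unusedSectionVars false
set_option backward.isDefEq.respectTransparency false
set_option backward.isDefEq.respectTransparency.types false

universe v w

open CategoryTheory CategoryTheory.Limits Opposite

noncomputable section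

namespace Groth.Agent.HyperPh5

variable {D : Type w} [Category.{v} D] [HasFiniteCoproducts D]

instance (l m : SimplexCategory) : Finite (l ⟶ m) :=
  Finite.of_injective (fun f => (f.toOrderHom : Fin (l.len + 1) → Fin (m.len + 1)))
    fun f g h => SimplexCategory.Hom.ext _ _ (OrderHom.ext _ _ h)

/-- The simplicial object `U × Δ[m]`. -/
def simplexOb (U : D) (m : ℕ) : SimplicialObject D where
  obj n := ∐ fun _ : (n.unop ⟶ SimplexCategory.mk m) => U
  map {n n'} g := Sigma.desc fun e => Sigma.ι (fun _ : (n'.unop ⟶ SimplexCategory.mk m) => U) (g.unop ≫ e)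
  map_id n := Sigma.hom_ext _ _ fun e => by simp
  map_comp g h := Sigma.hom_ext _ _ fun e => by simp

/-- A vertex of `U × Δ[m]`. -/
def simplexPt (U : D) {m : ℕ} {l : SimplexCategory} (g : l ⟶ SimplexCategory.mk m) :
    U ⟶ (simplexOb U m).obj (op l) :=
  Sigma.ι (fun _ : (l ⟶ SimplexCategory.mk m) => U) g

theorem simplexPt_map (U : D) {m : ℕ} {l k : SimplexCategory} (g : l ⟶ SimplexCategory.mk m) (h : k ⟶ l) :
    simplexPt U g ≫ (simplexOb U m).map h.op = simplexPt U (h ≫ g) :=
  Sigma.ι_desc _ _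

variable (K : SimplicialObject D)

theorem exists_missed {l m : ℕ} (h : l < m) (g : SimplexCategory.mk l ⟶ SimplexCategory.mk m) :
    ∃ j : Fin (m + 1), ∀ x, g.toOrderHom x ≠ j := by
  by_contra hne
  push Not at hne
  have := Fintype.card_le_of_surjective (g.toOrderHom : Fin (l + 1) → Fin (m + 1)) hne
  simp only [Fintype.card_fin] at this
  omega

theorem exists_factor {l m : ℕ} (g : SimplexCategory.mk l ⟶ SimplexCategory.mk (m + 1)) (j : Fin (m + 2))
    (hj : ∀ x, g.toOrderHom x ≠ j) : ∃ g' : SimplexCategory.mk l ⟶ SimplexCategory.mk m, g = g' ≫ SimplexCategory.δ j :=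
  SimplexCategory.eq_comp_δ_of_not_surjective' g j hj

theorem mono_δ {m : ℕ} (j : Fin (m + 2)) {l : SimplexCategory} {a b : l ⟶ SimplexCategory.mk m}
    (h : a ≫ SimplexCategory.δ j = b ≫ SimplexCategory.δ j) : a = b :=
  (cancel_mono (SimplexCategory.δ j)).1 h

theorem boundary_consistent {U : D} {n : ℕ} (y : Fin (n + 3) → (U ⟶ K.obj (op (SimplexCategory.mk (n + 1)))))
    (hy : ∀ i j : Fin (n + 2), i ≤ j → y j.succ ≫ K.δ i = y i.castSucc ≫ K.δ j) {l : ℕ}
    (j k : Fin (n + 3)) (a b : SimplexCategory.mk l ⟶ SimplexCategory.mk (n + 1))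
    (h : a ≫ SimplexCategory.δ j = b ≫ SimplexCategory.δ k) : y j ≫ K.map a.op = y k ≫ K.map b.op := by
  suffices H : ∀ (j k : Fin (n + 3)) (a b : SimplexCategory.mk l ⟶ SimplexCategory.mk (n + 1)), j < k →
      a ≫ SimplexCategory.δ j = b ≫ SimplexCategory.δ k → y j ≫ K.map a.op = y k ≫ K.map b.op by
    rcases lt_trichotomy j k with hjk | rfl | hjk
    · exact H j k a b hjk h
    · rw [mono_δ _ h]
    · exact (H k j b a hjk h.symm).symm
  clear h a b j k
  intro j k a b hlt h
  obtain ⟨j', rfl⟩ : ∃ j', j = Fin.castSucc j' :=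
    (Fin.exists_castSucc_eq.2 (Fin.ne_last_of_lt hlt)).imp fun _ e => e.symm
  obtain ⟨k', rfl⟩ : ∃ k', k = Fin.succ k' :=
    (Fin.exists_succ_eq.2 (Fin.ne_zero_of_lt hlt)).imp fun _ e => e.symm
  have hle : j' ≤ k' := Fin.castSucc_lt_succ_iff.1 hlt
  obtain ⟨f, rfl⟩ := exists_factor b j' fun x hx => by
    have e := congrArg (fun q => q.toOrderHom x) h
    simp only [SimplexCategory.comp_toOrderHom, OrderHom.comp_coe, Function.comp_apply, hx] at e
    have e1 : (SimplexCategory.δ k'.succ).toOrderHom j' = j'.castSucc :=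
      Fin.succAbove_of_castSucc_lt _ _ hlt
    rw [e1] at e
    exact Fin.succAbove_ne j'.castSucc _ e
  rw [Category.assoc, SimplexCategory.δ_comp_δ hle, ← Category.assoc] at h
  rw [mono_δ _ h, op_comp, op_comp, K.map_comp, K.map_comp, ← Category.assoc, ← Category.assoc]
  exact congrArg (· ≫ K.map f.op) (hy j' k' hle).symm

/-- A compatible boundary of an `(n + 1)`-simplex. -/
def Compat {U : D} {n : ℕ} (y : Fin (n + 2) → (U ⟶ K.obj (op (SimplexCategory.mk n)))) : Prop :=
  ∀ (l : ℕ) (j k : Fin (n + 2)) (a b : SimplexCategory.mk l ⟶ SimplexCategory.mk n),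
    a ≫ SimplexCategory.δ j = b ≫ SimplexCategory.δ k → y j ≫ K.map a.op = y k ≫ K.map b.op

variable {K}

theorem compat_zero {U : D} (y : Fin 2 → (U ⟶ K.obj (op (SimplexCategory.mk 0)))) : Compat K (n := 0) y := by
  intro l j k a b hab
  have e := congrArg (fun q => q.toOrderHom 0) hab
  simp only [SimplexCategory.comp_toOrderHom, OrderHom.comp_coe, Function.comp_apply] at e
  have ha : a.toOrderHom 0 = (0 : Fin 1) := Subsingleton.elim (α := Fin 1) _ _
  have hb : b.toOrderHom 0 = (0 : Fin 1) := Subsingleton.elim (α := Fin 1) _ _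
  rw [ha, hb] at e
  obtain rfl : j = k := by
    revert e
    fin_cases j <;> fin_cases k <;> decide
  rw [mono_δ _ hab]

theorem exists_family {U : D} {n : ℕ} {y : Fin (n + 2) → (U ⟶ K.obj (op (SimplexCategory.mk n)))}
    (hy : Compat K y) :
    ∃ τ : (SimplicialObject.truncation n).obj (simplexOb U (n + 1)) ⟶ (SimplicialObject.truncation n).obj K,
      ∀ j, simplexPt U (SimplexCategory.δ j) ≫ τ.app (op ⟨SimplexCategory.mk n, le_refl n⟩) = y j := by
  have hex : ∀ (l : SimplexCategory) (_ : l.len ≤ n) (g : l ⟶ SimplexCategory.mk (n + 1)),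
      ∃ s : U ⟶ K.obj (op l), ∀ (j : Fin (n + 2)) (a : l ⟶ SimplexCategory.mk n),
        g = a ≫ SimplexCategory.δ j → s = y j ≫ K.map a.op := by
    intro l hl g
    obtain ⟨l⟩ := l
    obtain ⟨j, hj⟩ := exists_missed (show l < n + 1 from Nat.lt_succ_of_le hl) g
    obtain ⟨a, rfl⟩ := exists_factor g j hj
    exact ⟨y j ≫ K.map a.op, fun j' a' h => hy l j j' a a' h⟩
  choose v hv using hex
  have hnat : ∀ (l l' : SimplexCategory) (hl : l.len ≤ n) (hl' : l'.len ≤ n) (f : l' ⟶ l)
      (g : l ⟶ SimplexCategory.mk (n + 1)), v l' hl' (f ≫ g) = v l hl g ≫ K.map f.op := by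
    intro l l' hl hl' f g
    obtain ⟨l⟩ := l
    obtain ⟨j, hj⟩ := exists_missed (show l < n + 1 from Nat.lt_succ_of_le hl) g
    obtain ⟨a, rfl⟩ := exists_factor g j hj
    rw [hv _ hl' _ j (f ≫ a) (Category.assoc _ _ _).symm, hv _ hl _ j a rfl, op_comp, K.map_comp, Category.assoc]
  refine ⟨{ app := fun l => Sigma.desc fun e => v l.unop.obj l.unop.property e
            naturality := fun l l' f => Sigma.hom_ext _ _ fun e => ?_ }, fun j => ?_⟩
  · show simplexPt U e ≫ (simplexOb U (n + 1)).map f.unop.hom.op ≫ Sigma.desc _ =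
      simplexPt U e ≫ Sigma.desc _ ≫ K.map f.unop.hom.op
    rw [← Category.assoc, simplexPt_map, ← Category.assoc, simplexPt, simplexPt, Sigma.ι_desc, Sigma.ι_desc]
    exact hnat l.unop.obj l'.unop.obj l.unop.property l'.unop.property f.unop.hom e
  · refine (Sigma.ι_desc _ _).trans ?_
    rw [hv _ _ _ j (𝟙 _) (Category.id_comp _).symm, op_id, K.map_id, Category.comp_id]

variable (n : ℕ) [∀ (F : (SimplexCategory.Truncated n)ᵒᵖ ⥤ D),
      (SimplexCategory.Truncated.inclusion n).op.HasRightKanExtension F]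

/-- A compatible boundary gives a point of the coskeleton, lifts of which fill the boundary. -/
theorem exists_fill {U : D} {y : Fin (n + 2) → (U ⟶ K.obj (op (SimplexCategory.mk n)))} (hy : Compat K y) :
    ∃ c : U ⟶ ((SimplicialObject.Truncated.cosk n).obj ((SimplicialObject.truncation n).obj K)).obj
        (op (SimplexCategory.mk (n + 1))),
      ∀ ⦃V : D⦄ (g : V ⟶ U) (t : V ⟶ K.obj (op (SimplexCategory.mk (n + 1)))),
      t ≫ ((SimplicialObject.coskAdj n).unit.app K).app (op (SimplexCategory.mk (n + 1))) = g ≫ c →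
      ∀ j, t ≫ K.δ j = g ≫ y j := by
  obtain ⟨τ, hτ⟩ := exists_family hy
  let σ := (SimplicialObject.coskAdj n).homEquiv _ _ τ
  refine ⟨simplexPt U (𝟙 (SimplexCategory.mk (n + 1))) ≫ σ.app (op (SimplexCategory.mk (n + 1))), fun V g t ht j => ?_⟩
  have hσ : (SimplicialObject.truncation n).map σ ≫
      (SimplicialObject.coskAdj n).counit.app ((SimplicialObject.truncation n).obj K) = τ :=
    ((SimplicialObject.coskAdj n).homEquiv_counit _ _ _).symm.trans (Equiv.symm_apply_apply _ _)
  let cn := ((SimplicialObject.coskAdj n).counit.app ((SimplicialObject.truncation n).obj K)).app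
    (op ⟨SimplexCategory.mk n, le_refl n⟩)
  have hu : ((SimplicialObject.coskAdj n).unit.app K).app (op (SimplexCategory.mk n)) ≫ cn = 𝟙 _ :=
    NatTrans.congr_app ((SimplicialObject.coskAdj n).left_triangle_components K) (op ⟨SimplexCategory.mk n, le_refl n⟩)
  have hn : K.δ j ≫ ((SimplicialObject.coskAdj n).unit.app K).app (op (SimplexCategory.mk n)) =
      ((SimplicialObject.coskAdj n).unit.app K).app (op (SimplexCategory.mk (n + 1))) ≫
        ((SimplicialObject.Truncated.cosk n).obj ((SimplicialObject.truncation n).obj K)).map (SimplexCategory.δ j).op :=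
    ((SimplicialObject.coskAdj n).unit.app K).naturality (SimplexCategory.δ j).op
  have hσn : σ.app (op (SimplexCategory.mk (n + 1))) ≫
      ((SimplicialObject.Truncated.cosk n).obj ((SimplicialObject.truncation n).obj K)).map (SimplexCategory.δ j).op =
      (simplexOb U (n + 1)).map (SimplexCategory.δ j).op ≫ σ.app (op (SimplexCategory.mk n)) :=
    (σ.naturality (SimplexCategory.δ j).op).symm
  have hk : σ.app (op (SimplexCategory.mk n)) ≫ cn = τ.app (op ⟨SimplexCategory.mk n, le_refl n⟩) :=
    NatTrans.congr_app hσ (op ⟨SimplexCategory.mk n, le_refl n⟩)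
  calc t ≫ K.δ j = t ≫ K.δ j ≫ ((SimplicialObject.coskAdj n).unit.app K).app (op (SimplexCategory.mk n)) ≫ cn := by
        erw [hu, Category.comp_id]
    _ = g ≫ simplexPt U (SimplexCategory.δ j) ≫ σ.app (op (SimplexCategory.mk n)) ≫ cn := by
        erw [reassoc_of% hn, reassoc_of% ht, reassoc_of% hσn]
        rw [← Category.assoc (simplexPt U (𝟙 _)), simplexPt_map, Category.comp_id]
    _ = g ≫ y j := by rw [hk, hτ]

end Groth.Agent.HyperPh5
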