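import Groth.Agent.Lib.HyperPh5.Cone
import Groth.Agent.Lib.HyperPh5.Cosk
import Groth.Agent.Lib.PhDescSS5.Cols
import Groth.Agent.Lib.HTop26.Square
import Groth.Agent.Lib.DblCx16.SpecSeq
import Groth.Agent.Lib.DblCx16.Aug
import Groth.Agent.Lib.EtDesc24.PullH
import Groth.Agent.Lib.FppfDescSS5.Main
import Groth.Prelude.Def_SpSeq
import Mathlib.AlgebraicTopology.AlternatingFaceMapComplex

/-!
# The descent spectral sequence of a proper hypercovering
-/

set_option autoImplicit false
set_option linter.style.haveILetI false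
set_option linter.unusedSectionVars false
set_option backward.isDefEq.respectTransparency false
set_option backward.isDefEq.respectTransparency.types false

universe u

open CategoryTheory CategoryTheory.Limits AlgebraicGeometry Opposite AlgebraicTopology
open Groth.Agent.DblCx16
open Groth.Agent.CmpSit16 (Syz syzOf)
open Groth.Agent.FppfDescSS5 (cx cx_d bse)
open Groth.Agent.PhDescSS5 (syz secCx nonempty_homology_secCx)

noncomputable section

namespace Groth.Agent.HyperPh5

variable {Y : Scheme.{u}}

/-- A proper surjection is covering in the ph topology, in the form of local liftings. -/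
theorem exists_lift {Z W : Over Y} (h : W ⟶ Z) (hp : IsProper h.left) (hs : Surjective h.left) {U : Over Y}
    (c : U ⟶ Z) : ∃ T : Sieve U, T ∈ HTop.Jph Y U ∧ ∀ ⦃V : Over Y⦄ (g : V ⟶ U), T g →
      ∃ t : V ⟶ W, t ≫ h = g ≫ c := by
  let P : Over Y := Over.mk (pullback.fst c.left h.left ≫ U.hom)
  let p : P ⟶ U := Over.homMk (pullback.fst c.left h.left)
  let t : P ⟶ W := Over.homMk (pullback.snd c.left h.left) (by
    show pullback.snd c.left h.left ≫ W.hom = pullback.fst c.left h.left ≫ U.hom
    rw [← Over.w c, ← Over.w h, pullback.condition_assoc])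
  haveI : IsProper p.left := MorphismProperty.pullback_fst _ _ hp
  haveI : Surjective p.left := MorphismProperty.pullback_fst _ _ hs
  refine ⟨_, HTop26.ph_over_mem (fun _ : PUnit.{u + 1} => p) fun x => ⟨PUnit.unit, p.left.surjective x⟩, ?_⟩
  rintro V _ ⟨_, a, _, ⟨_⟩, rfl⟩
  refine ⟨a ≫ t, ?_⟩
  rw [Category.assoc, Category.assoc]
  refine congrArg (a ≫ ·) (Over.OverMorphism.ext ?_)
  exact pullback.condition.symm

variable [∀ (n : ℕ) (G : (SimplexCategory.Truncated n)ᵒᵖ ⥤ Over Y),
      (SimplexCategory.Truncated.inclusion n).op.HasRightKanExtension G]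
variable {K : SimplicialObject (Over Y)}

/-- A proper hypercovering is locally contractible for the ph topology. -/
theorem isLocContr (h0p : IsProper (K.obj (op (SimplexCategory.mk 0))).hom)
    (h0s : Surjective (K.obj (op (SimplexCategory.mk 0))).hom)
    (hK : ∀ n : ℕ, IsProper (((SimplicialObject.coskAdj n).unit.app K).app (op (SimplexCategory.mk (n + 1)))).left ∧
      Surjective (((SimplicialObject.coskAdj n).unit.app K).app (op (SimplexCategory.mk (n + 1)))).left) :
    IsLocContr (HTop.Jph Y) K := by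
  have hfill : ∀ (n : ℕ) (U : Over Y) (y : Fin (n + 2) → (U ⟶ K.obj (op (SimplexCategory.mk n)))), Compat K y →
      ∃ T : Sieve U, T ∈ HTop.Jph Y U ∧ ∀ ⦃V : Over Y⦄ (g : V ⟶ U), T g →
        ∃ e : V ⟶ K.obj (op (SimplexCategory.mk (n + 1))), ∀ j, e ≫ K.δ j = g ≫ y j := by
    intro n U y hy
    obtain ⟨c, hc⟩ := exists_fill n hy
    obtain ⟨T, hT, hT'⟩ := exists_lift _ (hK n).1 (hK n).2 c
    refine ⟨T, hT, fun V g hg => ?_⟩
    obtain ⟨t, ht⟩ := hT' g hg
    exact ⟨t, hc g t ht⟩
  refine ⟨fun U => ?_, fun U a b => ?_, fun n U y hy => ?_⟩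
  · obtain ⟨T, hT, hT'⟩ := exists_lift (Over.homMk (K.obj (op (SimplexCategory.mk 0))).hom (Category.comp_id _) :
      K.obj (op (SimplexCategory.mk 0)) ⟶ bse Y) h0p h0s (Over.homMk U.hom (Category.comp_id _) : U ⟶ bse Y)
    exact ⟨T, hT, fun V g hg => ⟨(hT' g hg).choose⟩⟩
  · obtain ⟨T, hT, hT'⟩ := hfill 0 U (Fin.cons b fun _ => a) (compat_zero _)
    refine ⟨T, hT, fun V g hg => ?_⟩
    obtain ⟨e, he⟩ := hT' g hg
    exact ⟨e, he 1, he 0⟩
  · exact hfill (n + 1) U y fun l j k a b h => boundary_consistent K y hy j k a b h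

section Free

variable (K)

theorem rch_id {n : ℕ} {U : Over Y} (z : Ch K n U) : rch K (𝟙 U) z = z := by
  induction z using FreeAbelianGroup.induction_on with
  | zero => simp
  | of x => simp [rch]
  | neg x ih => simp [ih]
  | add a b iha ihb => simp [iha, ihb]

/-- The free abelian presheaf. -/
def P (n : ℕ) : (Over Y)ᵒᵖ ⥤ AddCommGrpCat.{u + 1} where
  obj U := AddCommGrpCat.of (ULift.{u + 1} (Ch K n U.unop))
  map g := AddCommGrpCat.ofHom
    (AddEquiv.ulift.symm.toAddMonoidHom.comp ((rch K g.unop).comp AddEquiv.ulift.toAddMonoidHom))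
  map_id U := by
    refine ConcreteCategory.hom_ext _ _ fun z => ?_
    exact congrArg ULift.up (rch_id K z.down)
  map_comp g h := by
    refine ConcreteCategory.hom_ext _ _ fun z => ?_
    exact congrArg ULift.up (rch_rch K g.unop h.unop z.down).symm

/-- The boundary. -/
def dP (n : ℕ) : P K (n + 1) ⟶ P K n where
  app U := AddCommGrpCat.ofHom
    (AddEquiv.ulift.symm.toAddMonoidHom.comp ((bd K n U.unop).comp AddEquiv.ulift.toAddMonoidHom))
  naturality U V g := by
    refine ConcreteCategory.hom_ext _ _ fun z => ?_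
    exact congrArg ULift.up (bd_rch K g.unop z.down)

/-- The augmentation. -/
def augP : P K 0 ⟶ (Functor.const (Over Y)ᵒᵖ).obj (AddCommGrpCat.of (ULift.{u + 1} ℤ)) where
  app U := AddCommGrpCat.ofHom
    (AddEquiv.ulift.symm.toAddMonoidHom.comp ((aug K U.unop).comp AddEquiv.ulift.toAddMonoidHom))
  naturality U V g := by
    refine ConcreteCategory.hom_ext _ _ fun z => ?_
    exact congrArg ULift.up (aug_rch K g.unop z.down)

variable {K} (I : (Over Y)ᵒᵖ ⥤ AddCommGrpCat.{u + 1})

/-- Evaluation of chains at a cochain. -/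
def evCh {n : ℕ} (x : I.obj (op (K.obj (op (SimplexCategory.mk n))))) (U : Over Y) : Ch K n U →+ I.obj (op U) :=
  FreeAbelianGroup.lift fun s => I.map s.op x

theorem evCh_rch {n : ℕ} (x : I.obj (op (K.obj (op (SimplexCategory.mk n))))) {U V : Over Y} (g : V ⟶ U)
    (z : Ch K n U) : evCh I x V (rch K g z) = I.map g.op (evCh I x U z) := by
  induction z using FreeAbelianGroup.induction_on with
  | zero => simp
  | of s => simp [evCh, rch]
  | neg s ih => simp [ih]
  | add a b iha ihb => simp [iha, ihb]

/-- The morphism given by a cochain. -/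
def homEv {n : ℕ} (x : I.obj (op (K.obj (op (SimplexCategory.mk n))))) : P K n ⟶ I where
  app U := AddCommGrpCat.ofHom ((evCh I x U.unop).comp AddEquiv.ulift.toAddMonoidHom)
  naturality U V g := by
    refine ConcreteCategory.hom_ext _ _ fun z => ?_
    exact evCh_rch I x g.unop z.down

/-- The coboundary. -/
def co {n : ℕ} (x : I.obj (op (K.obj (op (SimplexCategory.mk n))))) : I.obj (op (K.obj (op (SimplexCategory.mk (n + 1))))) :=
  ∑ i : Fin (n + 2), (-1 : ℤ) ^ (i : ℕ) • I.map (K.δ i).op x

theorem evCh_bd {n : ℕ} (x : I.obj (op (K.obj (op (SimplexCategory.mk n))))) (U : Over Y) (w : Ch K (n + 1) U) :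
    evCh I x U (bd K n U w) = evCh I (co I x) U w := by
  induction w using FreeAbelianGroup.induction_on with
  | zero => simp
  | of s => simp [evCh, bd, co, map_sum, map_zsmul]
  | neg s ih => simp [ih]
  | add a b iha ihb => simp [iha, ihb]

theorem evCh_zero {n : ℕ} (U : Over Y) (z : Ch K n U) :
    evCh I (0 : I.obj (op (K.obj (op (SimplexCategory.mk n))))) U z = 0 := by
  induction z using FreeAbelianGroup.induction_on with
  | zero => simp
  | of s => simp [evCh]
  | neg s ih => simp [ih]
  | add a b iha ihb => simp [iha, ihb]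

variable (G : HTop.AbPh Y) (hS : IsLocContr (HTop.Jph Y) K)

include hS in
/-- Cocycles of positive degree with values in an injective sheaf are coboundaries. -/
theorem exists_cochain [Injective G.obj] (n : ℕ) (x : G.obj.obj (op (K.obj (op (SimplexCategory.mk (n + 1))))))
    (hx : co G.obj x = 0) : ∃ y, co (n := n) G.obj y = x := by
  have hw : kernel.ι (dP K n) ≫ homEv G.obj x = 0 := by
    refine NatTrans.ext (funext fun U => ConcreteCategory.hom_ext _ _ fun k => ?_)
    obtain ⟨U⟩ := U
    let z : Ch K (n + 1) U := ((kernel.ι (dP K n)).app (op U) k).down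
    have hz : bd K n U z = 0 :=
      congrArg ULift.down (ConcreteCategory.congr_hom (NatTrans.congr_app (kernel.condition (dP K n)) (op U)) k)
    show evCh G.obj x U z = 0
    obtain ⟨T, hT, hT'⟩ := exists_bd hS n U z hz
    refine CmpBig24.sep (G := G) hT _ 0 fun V g hg => ?_
    obtain ⟨w, hw⟩ := hT' g hg
    rw [map_zero, ← evCh_rch, ← hw, evCh_bd, hx, evCh_zero]
  have hex : (ShortComplex.mk (kernel.ι (dP K n)) (dP K n) (kernel.condition _)).Exact :=
    ShortComplex.exact_of_f_is_kernel _ (kernelIsKernel _)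
  let ψ : P K n ⟶ G.obj := hex.descToInjective (homEv G.obj x) hw
  have hψ : dP K n ≫ ψ = homEv G.obj x := hex.comp_descToInjective _ hw
  let g (m : ℕ) : (P K m).obj (op (K.obj (op (SimplexCategory.mk m)))) := ULift.up (FreeAbelianGroup.of (𝟙 _))
  refine ⟨ψ.app _ (g n), ?_⟩
  have h := ConcreteCategory.congr_hom (NatTrans.congr_app hψ (op (K.obj (op (SimplexCategory.mk (n + 1)))))) (g (n + 1))
  have e : evCh G.obj x _ (FreeAbelianGroup.of (𝟙 (K.obj (op (SimplexCategory.mk (n + 1)))))) = x := by
    simp [evCh]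
  rw [← e]
  refine Eq.trans ?_ h
  let f : Ch K n (K.obj (op (SimplexCategory.mk (n + 1)))) →+ G.obj.obj (op (K.obj (op (SimplexCategory.mk (n + 1))))) :=
    (ψ.app (op (K.obj (op (SimplexCategory.mk (n + 1)))))).hom.comp AddEquiv.ulift.symm.toAddMonoidHom
  show co G.obj (ψ.app _ (g n)) = f (bd K n _ (FreeAbelianGroup.of (𝟙 _)))
  rw [bd, FreeAbelianGroup.lift_apply_of, map_sum, co]
  refine Finset.sum_congr rfl fun i _ => ?_
  rw [map_zsmul]
  congr 1
  refine (NatTrans.naturality_apply ψ (K.δ i).op (g n)).symm.trans (congrArg (fun t => ψ.app _ (ULift.up t)) ?_)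
  show rch K (K.δ i) (FreeAbelianGroup.of (𝟙 _)) = FreeAbelianGroup.of _
  rw [rch, FreeAbelianGroup.lift_apply_of]
  exact congrArg FreeAbelianGroup.of ((Category.comp_id _).trans (Category.id_comp _).symm)

include hS in
/-- Cocycles of degree zero with values in an injective sheaf are global sections. -/
theorem exists_section [Injective G.obj] (x : G.obj.obj (op (K.obj (op (SimplexCategory.mk 0)))))
    (hx : co G.obj x = 0) (h0 : K.obj (op (SimplexCategory.mk 0)) ⟶ bse Y) :
    ∃ y, G.obj.map h0.op y = x := by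
  have hw : kernel.ι (augP K) ≫ homEv G.obj x = 0 := by
    refine NatTrans.ext (funext fun U => ConcreteCategory.hom_ext _ _ fun k => ?_)
    obtain ⟨U⟩ := U
    let z : Ch K 0 U := ((kernel.ι (augP K)).app (op U) k).down
    have hz : aug K U z = 0 :=
      congrArg ULift.down (ConcreteCategory.congr_hom (NatTrans.congr_app (kernel.condition (augP K)) (op U)) k)
    show evCh G.obj x U z = 0
    obtain ⟨T, hT, hT'⟩ := exists_bd_zero hS U z hz
    refine CmpBig24.sep (G := G) hT _ 0 fun V g hg => ?_
    obtain ⟨w, hw⟩ := hT' g hg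
    rw [map_zero, ← evCh_rch, ← hw, evCh_bd, hx, evCh_zero]
  have hex : (ShortComplex.mk (kernel.ι (augP K)) (augP K) (kernel.condition _)).Exact :=
    ShortComplex.exact_of_f_is_kernel _ (kernelIsKernel _)
  let ψ : (Functor.const (Over Y)ᵒᵖ).obj (AddCommGrpCat.of (ULift.{u + 1} ℤ)) ⟶ G.obj :=
    hex.descToInjective (homEv G.obj x) hw
  have hψ : augP K ≫ ψ = homEv G.obj x := hex.comp_descToInjective _ hw
  refine ⟨ψ.app _ (ULift.up 1), ?_⟩
  refine (NatTrans.naturality_apply ψ h0.op (ULift.up (1 : ℤ))).symm.trans ?_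
  have h := ConcreteCategory.congr_hom (NatTrans.congr_app hψ (op (K.obj (op (SimplexCategory.mk 0)))))
    (ULift.up (FreeAbelianGroup.of (𝟙 _)))
  have e : evCh G.obj x _ (FreeAbelianGroup.of (𝟙 (K.obj (op (SimplexCategory.mk 0))))) = x := by
    simp [evCh]
  rw [← e]
  refine Eq.trans ?_ h
  exact congrArg (fun t => ψ.app _ (ULift.up t)) (FreeAbelianGroup.lift_apply_of (fun _ => (1 : ℤ)) _).symm

end Free

variable (K) (F : EtCoh.Ab Y)

/-- The presheaves of the resolution. -/
abbrev term (q : ℕ) : (Over Y)ᵒᵖ ⥤ AddCommGrpCat.{u + 1} := ((cx (syz F)).X q).obj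

theorem injective_term (q : ℕ) : Injective (term F q) :=
  haveI : Injective ((cx (syz F)).X q) := (syz F).inj q
  (sheafificationAdjunction (HTop.Jph Y) AddCommGrpCat.{u + 1}).map_injective ((cx (syz F)).X q) inferInstance

/-- The structure map to the base. -/
abbrev toBse (T : Over Y) : T ⟶ bse Y := Over.homMk T.hom (Category.comp_id _)

theorem eq_toBse {T : Over Y} (a : T ⟶ bse Y) : a = toBse T :=
  Over.OverMorphism.ext ((Category.comp_id _).symm.trans (Over.w a))

/-- The sections along the hypercovering. -/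
abbrev coA (q : ℕ) : CosimplicialObject AddCommGrpCat.{u + 1} := K.rightOp ⋙ term F q

theorem objD_apply (A : CosimplicialObject AddCommGrpCat.{u + 1}) (n : ℕ) (x : A.obj (SimplexCategory.mk n)) :
    AlternatingCofaceMapComplex.objD A n x = ∑ i : Fin (n + 2), (-1 : ℤ) ^ (i : ℕ) • A.δ i x := by
  have key : ∀ s : Finset (Fin (n + 2)), (∑ i ∈ s, (-1 : ℤ) ^ (i : ℕ) • A.δ i) x = ∑ i ∈ s, (-1 : ℤ) ^ (i : ℕ) • A.δ i x := by
    intro s
    induction s using Finset.induction with
    | empty => simp
    | insert a s ha ih => simp [Finset.sum_insert ha, ← ih]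
  exact key Finset.univ

/-- The coboundary as a homomorphism. -/
def dC (q n : ℕ) : (term F q).obj (op (K.obj (op (SimplexCategory.mk n)))) →+
    (term F q).obj (op (K.obj (op (SimplexCategory.mk (n + 1))))) :=
  (AlternatingCofaceMapComplex.objD (coA K F q) n).hom

theorem dC_apply (q n : ℕ) (x : (term F q).obj (op (K.obj (op (SimplexCategory.mk n))))) :
    dC K F q n x = co (term F q) x :=
  objD_apply (coA K F q) n x

/-- The terms of the double complex. -/
def dX : ℕ → ℕ → AddCommGrpCat.{u + 1}
  | 0, q => (term F q).obj (op (bse Y))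
  | p + 1, q => (term F q).obj (op (K.obj (op (SimplexCategory.mk p))))

/-- The horizontal maps. -/
def dH : ∀ p q, dX K F p q →+ dX K F (p + 1) q
  | 0, q => ((term F q).map (toBse _).op).hom
  | p + 1, q => dC K F q p

/-- The vertical maps. -/
def dV : ∀ p q, dX K F p q →+ dX K F p (q + 1)
  | 0, q => (((cx (syz F)).d q (q + 1)).hom.app _).hom
  | p + 1, q => (((cx (syz F)).d q (q + 1)).hom.app _).hom

theorem app_dd (q : ℕ) (T : Over Y) (x : (term F q).obj (op T)) :
    ((cx (syz F)).d (q + 1) (q + 2)).hom.app (op T) (((cx (syz F)).d q (q + 1)).hom.app (op T) x) = 0 := by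
  rw [← ConcreteCategory.comp_apply]
  exact ConcreteCategory.congr_hom
    (NatTrans.congr_app (congrArg (sheafToPresheaf _ _).map ((cx (syz F)).d_comp_d q (q + 1) (q + 2))) (op T)) x

theorem co_aug (q : ℕ) (x : (term F q).obj (op (bse Y))) :
    co (K := K) (n := 0) (term F q) ((term F q).map (toBse _).op x) = 0 := by
  rw [co, Fin.sum_univ_two]
  have h : ∀ i : Fin 2, (term F q).map (K.δ i).op ((term F q).map (toBse _).op x) =
      (term F q).map (toBse (K.obj (op (SimplexCategory.mk 1)))).op x := fun i => by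
    rw [CmpBig24.map_map, eq_toBse (K.δ i ≫ toBse _)]
  rw [h, h]
  simp

/-- The double complex of the hypercovering. -/
def dbl : Dbl.{u + 1} where
  X := dX K F
  h := dH K F
  v := dV K F
  hh p q x := by
    cases p with
    | zero => exact (dC_apply K F q 0 _).trans (co_aug K F q x)
    | succ p => exact ConcreteCategory.congr_hom (AlternatingCofaceMapComplex.d_squared (coA K F q) p) x
  vv p q x := by
    cases p with
    | zero => exact app_dd F q _ x
    | succ p => exact app_dd F q _ x
  hv p q x := by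
    cases p with
    | zero => exact (NatTrans.naturality_apply ((cx (syz F)).d q (q + 1)).hom (toBse _).op x).symm
    | succ p =>
      show dC K F (q + 1) p _ = ((cx (syz F)).d q (q + 1)).hom.app _ (dC K F q p x)
      rw [dC_apply, dC_apply, co, co, map_sum]
      refine Finset.sum_congr rfl fun i _ => ?_
      rw [map_zsmul]
      exact congrArg _ (NatTrans.naturality_apply ((cx (syz F)).d q (q + 1)).hom (K.δ i).op x).symm

variable (h0p : IsProper (K.obj (op (SimplexCategory.mk 0))).hom)
    (h0s : Surjective (K.obj (op (SimplexCategory.mk 0))).hom)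
    (hK : ∀ n : ℕ, IsProper (((SimplicialObject.coskAdj n).unit.app K).app (op (SimplexCategory.mk (n + 1)))).left ∧
      Surjective (((SimplicialObject.coskAdj n).unit.app K).app (op (SimplexCategory.mk (n + 1)))).left)

include h0p h0s hK in
theorem totExact (n : ℤ) : TotExact (dbl K F) n := by
  have hS := isLocContr h0p h0s hK
  refine totExact_of_rows (dbl K F) (fun q x hx => ?_) (fun p q x hx => ?_) n
  · obtain ⟨T, hT, hT'⟩ := hS.zero (bse Y)
    refine CmpBig24.sep (G := (cx (syz F)).X q) hT x 0 fun V g hg => ?_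
    obtain ⟨a⟩ := hT' g hg
    rw [map_zero, show g = a ≫ toBse _ from (eq_toBse g).trans (eq_toBse _).symm, ← CmpBig24.map_map]
    exact (congrArg _ hx).trans (map_zero _)
  · haveI := injective_term F q
    cases p with
    | zero => exact exists_section ((cx (syz F)).X q) hS x ((dC_apply K F q 0 x).symm.trans hx) (toBse _)
    | succ p =>
      obtain ⟨y, hy⟩ := exists_cochain ((cx (syz F)).X q) hS p x ((dC_apply K F q (p + 1) x).symm.trans hx)
      exact ⟨y, (dC_apply K F q p y).trans hy⟩

/-- The column zero. -/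
def colZeroIso : col (dbl K F) 0 ≅ secCx F (bse Y) :=
  HomologicalComplex.Hom.isoOfComponents (fun _ => Iso.refl _) (fun i j hij => by
    obtain rfl : i + 1 = j := hij
    refine ConcreteCategory.hom_ext _ _ fun x => ?_
    exact (col_d (dbl K F) 0 i x).symm)

/-- The further columns. -/
def colIso (p : ℕ) : col (shift (dbl K F)) p ≅ secCx F (K.obj (op (SimplexCategory.mk p))) :=
  HomologicalComplex.Hom.isoOfComponents (fun _ => Iso.refl _) (fun i j hij => by
    obtain rfl : i + 1 = j := hij
    refine ConcreteCategory.hom_ext _ _ fun x => ?_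
    exact (col_d (shift (dbl K F)) p i x).symm)

include h0p h0s hK in
/-- The descent spectral sequence. -/
theorem exists_descent_ss (hBC : PBC24.ProperBC.{u}) (hF : EtCoh.IsTorsion F) :
    ∃ (E : CohomologicalSpectralSequence AddCommGrpCat.{u + 1} 1)
      (a : SpSeq.Abutment E (fun n : ℤ =>
        if 0 ≤ n then AddCommGrpCat.of (EtCoh.H Y F n.toNat) else AddCommGrpCat.of PUnit.{u + 2})),
      (∀ n, a.IsFinite n) ∧ SpSeq.IsBounded E ∧
      ∀ p q : ℤ, Nonempty ((E.page 1 le_rfl).X (p, q) ≅
        (if 0 ≤ p ∧ 0 ≤ q then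
          AddCommGrpCat.of (EtCoh.H (K.obj (op (SimplexCategory.mk p.toNat))).left
            ((EtCoh.pull (K.obj (op (SimplexCategory.mk p.toNat))).hom).obj F) q.toNat)
         else AddCommGrpCat.of PUnit.{u + 2})) := by
  refine exists_ss (shift (dbl K F)) _ (fun n => ?_) _ (fun p q => ?_) ?_
  · by_cases hn : 0 ≤ n
    · obtain ⟨k, rfl⟩ := Int.eq_ofNat_of_zero_le hn
      rw [if_pos hn]
      exact ⟨(nonempty_homology_col_iso (dbl K F) (totExact K F h0p h0s hK) k).some.symm ≪≫
        (HomologicalComplex.homologyFunctor _ _ k).mapIso (colZeroIso K F) ≪≫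
        (nonempty_homology_secCx F hBC hF (bse Y) k).some ≪≫
        (Sheaf.functorH _ k).mapIso ((EtDesc24.pullId Y).app F)⟩
    · rw [if_neg hn]
      refine ⟨IsZero.iso (ShortComplex.isZero_homology_of_isZero_X₂ _ ?_)
        (AddCommGrpCat.isZero_of_subsingleton _)⟩
      haveI : IsEmpty (Idx n) := ⟨fun i => hn (by have := i.2; omega)⟩
      exact @AddCommGrpCat.isZero_of_subsingleton _ (inferInstanceAs (Subsingleton (T (shift (dbl K F)) n)))
  · rw [if_pos ⟨Int.natCast_nonneg p, Int.natCast_nonneg q⟩]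
    exact ⟨(HomologicalComplex.homologyFunctor _ _ q).mapIso (colIso K F p) ≪≫
      (nonempty_homology_secCx F hBC hF _ q).some⟩
  · intro p q h
    rw [if_neg (by omega)]
    exact AddCommGrpCat.isZero_of_subsingleton _

end Groth.Agent.HyperPh5

end
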